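import Mathlib
import Cfsg.Prelude.Def_SolvableStructure
import Cfsg.Agent.S3997
import Cfsg.Agent.Lib.Helper12.SupersolvableChief

/-!
# Order types and supersolvable groups (S3998)

A finite group with the same order type as a supersolvable group is solvable: the Sylow subgroup
for the largest prime is normal in both groups (count the `p`-elements), and the quotients by
these Sylow subgroups have again the same order type.
-/

set_option autoImplicit false

namespace Cfsg.Agent.Lib.Helper38.OrdType

open Cfsg

universe u v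

/-- the order of the image of `y` modulo a normal Sylow `p`-subgroup is the `p'`-part of the
order of `y` -/
theorem orderOf_mk_normal_sylow {X : Type*} [Group X] [Finite X] (p : ℕ) [hp : Fact p.Prime]
    (P : Sylow p X) [hP : (P : Subgroup X).Normal] (y : X) :
    orderOf (QuotientGroup.mk y : X ⧸ (P : Subgroup X)) = ordCompl[p] (orderOf y) := by
  set n := orderOf y with hn_def
  set m := ordCompl[p] n with hm_def
  have hn : 0 < n := orderOf_pos y
  have hm0 : m ≠ 0 := (Nat.ordCompl_pos p hn.ne').ne'
  have hpm : ¬ p ∣ m := Nat.not_dvd_ordCompl hp.out hn.ne'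
  have hnm : p ^ (n.factorization p) * m = n := Nat.ordProj_mul_ordCompl_eq_self n p
  have hmn : m ∣ n := Dvd.intro_left _ hnm
  -- (i)
  have h1 : orderOf (QuotientGroup.mk y : X ⧸ (P : Subgroup X)) ∣ m := by
    apply orderOf_dvd_of_pow_eq_one
    rw [← QuotientGroup.mk_pow, QuotientGroup.eq_one_iff]
    apply Cfsg.Agent.S3997.pElts_subset_sylow_of_normal p P hP
    refine ⟨n.factorization p, ?_⟩
    rw [orderOf_pow_of_dvd hm0 hmn]
    exact Nat.div_eq_of_eq_mul_left (Nat.pos_of_ne_zero hm0) hnm.symm
  -- (ii)
  set d := orderOf (QuotientGroup.mk y : X ⧸ (P : Subgroup X)) with hd_def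
  have hd0 : d ≠ 0 := (orderOf_pos _).ne'
  have hdn : d ∣ n := h1.trans hmn
  have hyd : y ^ d ∈ (P : Subgroup X) := by
    rw [← QuotientGroup.eq_one_iff, QuotientGroup.mk_pow, hd_def, pow_orderOf_eq_one]
  obtain ⟨k, hk⟩ := Cfsg.Agent.S3997.sylow_subset_pElts p P hyd
  rw [orderOf_pow_of_dvd hd0 hdn] at hk
  have hndk : n = d * p ^ k := by
    have := Nat.div_mul_cancel hdn
    rw [hk] at this
    rw [← this, mul_comm]
  have hmd : m ∣ d := by
    have h2 : m ∣ d * p ^ k := hndk ▸ hmn
    have hcop : Nat.Coprime m (p ^ k) :=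
      ((Nat.Prime.coprime_iff_not_dvd hp.out).mpr hpm).symm.pow_right k
    exact hcop.dvd_of_dvd_mul_right h2
  exact Nat.dvd_antisymm h1 hmd

/-- the Sylow subgroup of a finite supersolvable group for the largest prime is normal -/
theorem normal_sylow_max_prime_aux : ∀ (n : ℕ) (G : Type u) [Group G] [Finite G],
    Nat.card G = n → Cfsg.IsSupersolvable G → ∀ (p : ℕ) [Fact p.Prime], p ∣ n →
    (∀ q : ℕ, q.Prime → q ∣ n → q ≤ p) → ∀ P : Sylow p G, (P : Subgroup G).Normal := by
  intro n
  induction n using Nat.strong_induction_on with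
  | _ n ih =>
    intro G _ _ hn hG p hp hpn hmax P
    obtain ⟨N, hN, hNp⟩ := Cfsg.Agent.Lib.Helper12.exists_normal_card_eq_max_prime hG p hp.out
      (hn ▸ hpn) (fun q hq hqn => hmax q hq (hn ▸ hqn))
    have hcard : Nat.card (G ⧸ N) * p = n := by
      rw [← hNp, ← hn]
      have := N.card_mul_index
      rw [mul_comm] at this
      exact this
    have hp0 : 0 < p := hp.out.pos
    have hn0 : 0 < n := by rw [← hn]; exact Nat.card_pos
    have hlt : Nat.card (G ⧸ N) < n := by
      have h1 : 0 < Nat.card (G ⧸ N) := Nat.card_pos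
      have h2 := hp.out.two_le
      nlinarith
    have hGq : Cfsg.IsSupersolvable (G ⧸ N) :=
      Cfsg.Agent.Lib.Helper12.isSupersolvable_quotient N hG
    let Q : Sylow p (G ⧸ N) := default
    have hQn : (Q : Subgroup (G ⧸ N)).Normal := by
      by_cases hpq : p ∣ Nat.card (G ⧸ N)
      · exact ih _ hlt (G ⧸ N) rfl hGq p hpq
          (fun q hq hqn => hmax q hq (hcard ▸ Dvd.dvd.mul_right hqn p)) Q
      · have hQ1 : Nat.card (Q : Subgroup (G ⧸ N)) = 1 := by
          rw [Sylow.card_eq_multiplicity, Nat.factorization_eq_zero_of_not_dvd hpq, pow_zero]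
        rw [Subgroup.card_eq_one.mp hQ1]
        infer_instance
    let M : Subgroup G := (Q : Subgroup (G ⧸ N)).comap (QuotientGroup.mk' N)
    have hMn : M.Normal := hQn.comap _
    have hMcard : Nat.card M = p ^ (Nat.card G).factorization p := by
      have hidx : M.index = (Q : Subgroup (G ⧸ N)).index :=
        Subgroup.index_comap_of_surjective _ (QuotientGroup.mk'_surjective N)
      have h1 := M.card_mul_index
      have h2 := (Q : Subgroup (G ⧸ N)).card_mul_index
      have hQi : 0 < (Q : Subgroup (G ⧸ N)).index :=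
        Nat.pos_of_ne_zero Subgroup.index_ne_zero_of_finite
      have h3 : Nat.card M = Nat.card (Q : Subgroup (G ⧸ N)) * p := by
        apply Nat.eq_of_mul_eq_mul_right hQi
        rw [← hidx, h1, hn, ← hcard, ← h2, hidx]
        ring
      rw [h3, Sylow.card_eq_multiplicity, hn, ← hcard,
        Nat.factorization_mul (Nat.card_pos).ne' hp0.ne', Finsupp.add_apply,
        Nat.Prime.factorization_self hp.out, pow_succ]
    let P0 : Sylow p G := Sylow.ofCard M hMcard
    have hP0 : (P0 : Subgroup G).Normal := hMn
    have : Unique (Sylow p G) := Sylow.unique_of_normal P0 hP0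
    have hPP0 : P = P0 := Subsingleton.elim _ _
    rw [hPP0]
    exact hP0

end Cfsg.Agent.Lib.Helper38.OrdType
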