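import Mathlib
import Cfsg.Prelude.Def_SolvableStructure
import Cfsg.Agent.S3997
import Cfsg.Agent.Lib.Helper12.SupersolvableChief
import Cfsg.Agent.Lib.Helper38.OrdType.Tower

/-!
# Order types and supersolvable groups (S3998): the induction
-/

set_option autoImplicit false

namespace Cfsg.Agent.Lib.Helper38.OrdType

open Cfsg

universe u v

/-- a normal Sylow subgroup is transported along an order-preserving bijection -/
theorem normal_sylow_of_equiv {G : Type u} {H : Type v} [Group G] [Finite G] [Group H] [Finite H]
    (e : G ≃ H) (he : ∀ g, orderOf (e g) = orderOf g) (p : ℕ) [hp : Fact p.Prime]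
    (P : Sylow p G) (hPn : (P : Subgroup G).Normal) (Q : Sylow p H) :
    (Q : Subgroup H).Normal := by
  have hcard : Nat.card G = Nat.card H := Nat.card_congr e
  have hpe : (Cfsg.Agent.S3997.pElts p G).ncard = (Cfsg.Agent.S3997.pElts p H).ncard := by
    have : Cfsg.Agent.S3997.pElts p H = e '' Cfsg.Agent.S3997.pElts p G := by
      ext h
      constructor
      · rintro ⟨k, hk⟩
        refine ⟨e.symm h, ⟨k, ?_⟩, by simp⟩
        rw [← he, Equiv.apply_symm_apply, hk]
      · rintro ⟨g, ⟨k, hk⟩, rfl⟩
        exact ⟨k, by rw [he, hk]⟩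
    rw [this, Set.ncard_image_of_injective _ e.injective]
  have hPeq : ((P : Subgroup G) : Set G) = Cfsg.Agent.S3997.pElts p G :=
    Set.Subset.antisymm (Cfsg.Agent.S3997.sylow_subset_pElts p P)
      (Cfsg.Agent.S3997.pElts_subset_sylow_of_normal p P hPn)
  have hQcard : ∀ Q' : Sylow p H,
      ((Q' : Subgroup H) : Set H).ncard = (Cfsg.Agent.S3997.pElts p H).ncard := by
    intro Q'
    rw [← hpe, ← hPeq]
    change Nat.card (Q' : Subgroup H) = Nat.card (P : Subgroup G)
    rw [Sylow.card_eq_multiplicity, Sylow.card_eq_multiplicity, hcard]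
  have hQeq : ∀ Q' : Sylow p H, ((Q' : Subgroup H) : Set H) = Cfsg.Agent.S3997.pElts p H := by
    intro Q'
    exact Set.eq_of_subset_of_ncard_le (Cfsg.Agent.S3997.sylow_subset_pElts p Q') (hQcard Q').ge
      (Set.toFinite _)
  have : Subsingleton (Sylow p H) := by
    constructor
    intro Q1 Q2
    apply Sylow.ext
    apply SetLike.coe_injective
    rw [hQeq Q1, hQeq Q2]
  exact Sylow.normal_of_subsingleton Q

/-- counting the elements of given order in the quotient by a normal Sylow subgroup -/
theorem card_orderOf_quotient {X : Type*} [Group X] [Finite X] (p : ℕ) [hp : Fact p.Prime]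
    (P : Sylow p X) [hP : (P : Subgroup X).Normal] (m : ℕ) :
    Nat.card {y : X // ordCompl[p] (orderOf y) = m} =
      Nat.card (P : Subgroup X) * Nat.card {x : X ⧸ (P : Subgroup X) // orderOf x = m} := by
  have e1 : {y : X // ordCompl[p] (orderOf y) = m} ≃
      (QuotientGroup.mk ⁻¹' {x : X ⧸ (P : Subgroup X) | orderOf x = m} : Set X) :=
    Equiv.subtypeEquivRight (fun y => by
      rw [Set.mem_preimage, Set.mem_ofPred_eq, orderOf_mk_normal_sylow p P y])
  rw [Nat.card_congr e1,
    Nat.card_congr (QuotientGroup.preimageMkEquivSubgroupProdSet (P : Subgroup X) _),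
    Nat.card_prod]
  rfl

theorem solvable_aux : ∀ (n : ℕ) (G : Type u) (H : Type v) [Group G] [Finite G] [Group H]
    [Finite H], Nat.card G = n →
    (∀ m : ℕ, Nat.card {g : G // orderOf g = m} = Nat.card {h : H // orderOf h = m}) →
    Cfsg.IsSupersolvable G → Group.IsSolvable H := by
  intro n
  induction n using Nat.strong_induction_on with
  | _ n ih =>
    intro G H _ _ _ _ hn hT hG
    obtain ⟨e, he⟩ := Cfsg.Agent.S3997.exists_equiv hT
    have hcard : Nat.card G = Nat.card H := Nat.card_congr e
    by_cases hn1 : n ≤ 1
    · -- `H` is trivial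
      have hH1 : Nat.card H ≤ 1 := by rw [← hcard, hn]; exact hn1
      have : Subsingleton H := Finite.card_le_one_iff_subsingleton.mp hH1
      exact Group.isSolvable_of_comm (fun a b => by
        rw [Subsingleton.elim a 1, Subsingleton.elim b 1])
    · have hn2 : 1 < n := by omega
      obtain ⟨p, hp, hpn, hmax⟩ := Cfsg.Agent.Lib.Helper12.exists_max_prime_dvd hn2
      have : Fact p.Prime := ⟨hp⟩
      let P : Sylow p G := default
      have hPn : (P : Subgroup G).Normal :=
        normal_sylow_max_prime_aux n G hn hG p hpn hmax P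
      let Q : Sylow p H := default
      have hQn : (Q : Subgroup H).Normal := normal_sylow_of_equiv e he p P hPn Q
      -- the cardinalities of the two Sylow subgroups
      have hPQ : Nat.card (P : Subgroup G) = Nat.card (Q : Subgroup H) := by
        rw [Sylow.card_eq_multiplicity, Sylow.card_eq_multiplicity, hcard]
      have hPpos : 0 < Nat.card (P : Subgroup G) := Nat.card_pos
      -- the quotients have the same order type
      have hT' : ∀ m : ℕ, Nat.card {x : G ⧸ (P : Subgroup G) // orderOf x = m} =
          Nat.card {x : H ⧸ (Q : Subgroup H) // orderOf x = m} := by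
        intro m
        have h1 := card_orderOf_quotient p P m
        have h2 := card_orderOf_quotient p Q m
        have e2 : {y : G // ordCompl[p] (orderOf y) = m} ≃
            {y : H // ordCompl[p] (orderOf y) = m} :=
          e.subtypeEquiv (fun y => by rw [he])
        rw [Nat.card_congr e2, h2, ← hPQ] at h1
        exact (Nat.eq_of_mul_eq_mul_left hPpos h1).symm
      -- the quotient of `G` is smaller
      have hP1 : 1 < Nat.card (P : Subgroup G) := by
        rw [Sylow.card_eq_multiplicity, hn]
        have hpos : 0 < n.factorization p :=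
          (hp.factorization_pos_of_dvd (by omega) hpn)
        exact Nat.one_lt_pow hpos.ne' hp.one_lt
      have hlt : Nat.card (G ⧸ (P : Subgroup G)) < n := by
        have h1 := (P : Subgroup G).card_mul_index
        have h2 : Nat.card (G ⧸ (P : Subgroup G)) = (P : Subgroup G).index := rfl
        have h3 : 0 < (P : Subgroup G).index :=
          Nat.pos_of_ne_zero Subgroup.index_ne_zero_of_finite
        rw [h2, ← hn, ← h1]
        nlinarith
      have hsq : Group.IsSolvable (H ⧸ (Q : Subgroup H)) :=
        ih _ hlt (G ⧸ (P : Subgroup G)) (H ⧸ (Q : Subgroup H)) rfl hT'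
          (Cfsg.Agent.Lib.Helper12.isSupersolvable_quotient (P : Subgroup G) hG)
      have hsQ : Group.IsSolvable (Q : Subgroup H) := by
        have hnil : Group.IsNilpotent (Q : Subgroup H) := Q.isPGroup'.isNilpotent
        exact IsNilpotent.to_isSolvable
      exact Group.isSolvable_of_ker_le_range (Q : Subgroup H).subtype
        (QuotientGroup.mk' (Q : Subgroup H)) (by simp)

/-- **S3998** -/
theorem solvable_of_same_order_type {G : Type u} {H : Type v} [Group G] [Finite G] [Group H]
    [Finite H]
    (hT : ∀ m : ℕ, Nat.card {g : G // orderOf g = m} = Nat.card {h : H // orderOf h = m})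
    (hG : Cfsg.IsSupersolvable G) : Group.IsSolvable H :=
  solvable_aux _ G H rfl hT hG

end Cfsg.Agent.Lib.Helper38.OrdType
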